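import Mathlib
import Cfsg.Agent.Lib.helper4.SharpFourC
import Cfsg.Agent.Lib.helper6.OrbitTools

set_option autoImplicit false
set_option linter.unusedSectionVars false

namespace Cfsg.Agent.Lib.Helper22.LW

open MulAction Cfsg.Agent.Lib.helper4 Cfsg.Agent.Lib.helper6

section basics

variable {K β : Type*} [Group K] [MulAction K β]

/-- the embedding of five distinct points -/
def embFive (a b c d e : β) (h : [a, b, c, d, e].Nodup) : Fin 5 ↪ β :=
  ⟨![a, b, c, d, e], by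
    intro i j hij
    simp only [List.nodup_cons, List.mem_cons, List.not_mem_nil, or_false, not_or,
      List.nodup_nil, and_true, not_false_eq_true] at h
    fin_cases i <;> fin_cases j <;> simp_all⟩

theorem eq_one_of_fix5 (h5 : ∀ v : Fin 5 ↪ β, stabilizer K v = ⊥) (g : K) (a b c d e : β)
    (hn : [a, b, c, d, e].Nodup) (ha : g • a = a) (hb : g • b = b) (hc : g • c = c)
    (hd : g • d = d) (he : g • e = e) : g = 1 := by
  have hmem : g ∈ stabilizer K (embFive a b c d e hn) := by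
    rw [mem_stabilizer_iff]
    ext i
    rw [Function.Embedding.smul_apply]
    fin_cases i
    · exact ha
    · exact hb
    · exact hc
    · exact hd
    · exact he
  rw [h5, Subgroup.mem_bot] at hmem
  exact hmem

/-- the pointwise stabiliser of four points -/
def L4 (a b c d : β) : Subgroup K :=
  stabilizer K a ⊓ stabilizer K b ⊓ stabilizer K c ⊓ stabilizer K d

theorem mem_L4 {a b c d : β} {w : K} :
    w ∈ L4 (K := K) a b c d ↔ w • a = a ∧ w • b = b ∧ w • c = c ∧ w • d = d := by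
  simp only [L4, Subgroup.mem_inf, mem_stabilizer_iff, and_assoc]

theorem L4_eq_stabilizer {a b c d : β} (hn : [a, b, c, d].Nodup) :
    L4 (K := K) a b c d = stabilizer K (embFour a b c d hn) := by
  ext w
  rw [mem_L4, mem_stabilizer_iff]
  constructor
  · rintro ⟨h1, h2, h3, h4⟩
    ext i
    rw [Function.Embedding.smul_apply]
    fin_cases i
    · exact h1
    · exact h2
    · exact h3
    · exact h4
  · intro hw
    refine ⟨?_, ?_, ?_, ?_⟩
    · exact congrArg (fun f => f 0) hw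
    · exact congrArg (fun f => f 1) hw
    · exact congrArg (fun f => f 2) hw
    · exact congrArg (fun f => f 3) hw

theorem card_L4 {h : ℕ} (h4 : ∀ v : Fin 4 ↪ β, Nat.card (stabilizer K v) = h) {a b c d : β}
    (hn : [a, b, c, d].Nodup) : Nat.card (L4 (K := K) a b c d) = h := by
  rw [L4_eq_stabilizer hn]
  exact h4 _

theorem pow_eq_one_of_mem_L4 [Finite K] {h : ℕ}
    (h4 : ∀ v : Fin 4 ↪ β, Nat.card (stabilizer K v) = h) {a b c d : β}
    (hn : [a, b, c, d].Nodup) {w : K} (hw : w ∈ L4 (K := K) a b c d) : w ^ h = 1 := by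
  have := pow_card_eq_one' (G := L4 (K := K) a b c d) (x := ⟨w, hw⟩)
  rw [card_L4 h4 hn] at this
  exact congrArg Subtype.val this

theorem eq_one_of_sq_eq_one_of_mem_L4 [Finite K] {h : ℕ} (hodd : Odd h)
    (h4 : ∀ v : Fin 4 ↪ β, Nat.card (stabilizer K v) = h) {a b c d : β}
    (hn : [a, b, c, d].Nodup) {w : K} (hw : w ∈ L4 (K := K) a b c d) (h2 : w * w = 1) :
    w = 1 := by
  have h1 := pow_eq_one_of_mem_L4 h4 hn hw
  obtain ⟨m, rfl⟩ := hodd
  rw [pow_succ, pow_mul, pow_two, h2, one_pow, one_mul] at h1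
  exact h1

/-- the core transitivity step: if `g` carries four points to four points compatibly with the
involution `x`, then `g` can be corrected by an element of the four-point stabiliser of the
target so as to centralise `x`. -/
theorem exists_centralizing [Finite K] {h : ℕ} (hodd : Odd h)
    (h4 : ∀ v : Fin 4 ↪ β, Nat.card (stabilizer K v) = h)
    (x : K) (hx2 : x * x = 1) (g : K) {a b c d a' b' c' d' : β}
    (hn' : [a', b', c', d'].Nodup)
    (ga : g • a = a') (gb : g • b = b') (gc : g • c = c') (gd : g • d = d')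
    (xa : x • a' = g • (x • a)) (xb : x • b' = g • (x • b)) (xc : x • c' = g • (x • c))
    (xd : x • d' = g • (x • d)) :
    ∃ v : K, v ∈ L4 (K := K) a' b' c' d' ∧ (v * g) * x = x * (v * g) := by
  have hxinv : x⁻¹ = x := inv_eq_of_mul_eq_one_left hx2
  have hxx : ∀ y : β, x • (x • y) = y := fun y => by rw [← mul_smul, hx2, one_smul]
  set w : K := g * x * g⁻¹ * x with hw
  have key : ∀ (p p' : β), g • p = p' → x • p' = g • (x • p) → w • p' = p' := by
    intro p p' gp xp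
    rw [hw, mul_smul, mul_smul, mul_smul, xp, inv_smul_smul, hxx, gp]
  have hwL : w ∈ L4 (K := K) a' b' c' d' :=
    mem_L4.mpr ⟨key a a' ga xa, key b b' gb xb, key c c' gc xc, key d d' gd xd⟩
  have hwh : w ^ h = 1 := pow_eq_one_of_mem_L4 h4 hn' hwL
  obtain ⟨j, rfl⟩ := hodd
  refine ⟨w ^ j, Subgroup.pow_mem _ hwL j, ?_⟩
  -- x * w * x = w⁻¹
  have h1 : x * w * x⁻¹ = w⁻¹ := by
    rw [hw, hxinv]
    have : (g * x * g⁻¹ * x)⁻¹ = x * g * x * g⁻¹ := by
      rw [mul_inv_rev, mul_inv_rev, mul_inv_rev, inv_inv, hxinv]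
      group
    rw [this]
    calc x * (g * x * g⁻¹ * x) * x = x * g * x * g⁻¹ * (x * x) := by group
      _ = x * g * x * g⁻¹ := by rw [hx2, mul_one]
  have h2 : x * w ^ j * x⁻¹ = (w⁻¹) ^ j := by rw [← conj_pow, h1]
  have h3 : g * x = w * x * g := by
    rw [hw]
    calc g * x = g * x * g⁻¹ * (x * x) * g := by rw [hx2]; group
      _ = g * x * g⁻¹ * x * x * g := by group
  have h4' : x * w ^ j = (w⁻¹) ^ j * x := by
    rw [← h2, hxinv]
    calc x * w ^ j = x * w ^ j * (x * x) := by rw [hx2, mul_one]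
      _ = x * w ^ j * x * x := by group
  calc w ^ j * g * x = w ^ j * (g * x) := by group
    _ = w ^ j * (w * x * g) := by rw [h3]
    _ = w ^ (j + 1) * x * g := by rw [pow_succ]; group
    _ = (w⁻¹) ^ j * x * g := by
        congr 2
        rw [inv_pow, eq_inv_iff_mul_eq_one, ← pow_add]
        rw [show j + 1 + j = 2 * j + 1 by ring]
        exact hwh
    _ = x * w ^ j * g := by rw [h4']
    _ = x * (w ^ j * g) := by group

end basics

section count

variable {K β : Type*} [Group K] [Finite K] [MulAction K β] [Fintype β] [DecidableEq β]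

/-- the centraliser of `x` -/
abbrev Cx (x : K) : Subgroup K := Subgroup.centralizer ({x} : Set K)

theorem mem_Cx {x c : K} : c ∈ Cx x ↔ c * x = x * c := by
  rw [Subgroup.mem_centralizer_iff]
  constructor
  · intro h
    exact (h x rfl).symm
  · intro h y hy
    rw [Set.mem_singleton_iff] at hy
    rw [hy]
    exact h.symm

/-- moved points -/
def Mset (x : K) : Finset β := Finset.univ.filter (fun a : β => x • a ≠ a)

/-- fixed points -/
def Fset (x : K) : Finset β := Finset.univ.filter (fun a : β => x • a = a)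

theorem mem_Mset {x : K} {a : β} : a ∈ Mset x ↔ x • a ≠ a := by simp [Mset]

theorem mem_Fset {x : K} {a : β} : a ∈ Fset x ↔ x • a = a := by simp [Fset]

theorem card_F_add_card_M (x : K) : (Fset x : Finset β).card + (Mset x : Finset β).card
    = Fintype.card β := by
  have := Finset.card_filter_add_card_filter_not (s := (Finset.univ : Finset β))
    (fun a : β => x • a = a)
  rw [Finset.card_univ] at this
  exact this

theorem count1 (hT : IsMultiplyPretransitive K β 4) {h : ℕ} (hodd : Odd h)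
    (h4 : ∀ v : Fin 4 ↪ β, Nat.card (stabilizer K v) = h)
    (x : K) (hx2 : x * x = 1) (a₀ p₁ p₂ : β) (ha : x • a₀ ≠ a₀) (hp₁ : x • p₁ = p₁)
    (hp₂ : x • p₂ = p₂) (hp : p₁ ≠ p₂) :
    ((Mset x : Finset β) ×ˢ (Fset x : Finset β).offDiag).card *
      Nat.card (stabilizer (Cx x) ((a₀, p₁, p₂) : β × β × β)) = Nat.card (Cx x) := by
  have hxx : ∀ y : β, x • (x • y) = y := fun y => by rw [← mul_smul, hx2, one_smul]
  rw [← ncard_orbit_mul_card_stabilizer (Q := Cx x) ((a₀, p₁, p₂) : β × β × β)]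
  congr 1
  rw [← Set.ncard_coe_finset]
  congr 1
  ext ⟨a, p, q⟩
  simp only [Finset.coe_product, Set.mem_prod, Finset.mem_coe, mem_Mset, Finset.mem_offDiag,
    mem_Fset]
  constructor
  · rintro ⟨ha', hp', hq', hpq⟩
    have hbase := nodup4_of_moved_fixed x hxx a₀ p₁ p₂ ha hp₁ hp₂ hp
    have htarget := nodup4_of_moved_fixed x hxx a p q ha' hp' hq' hpq
    obtain ⟨g, g1, g2, g3, g4⟩ :=
      exists_map4 (K := K) a₀ (x • a₀) p₁ p₂ a (x • a) p q hbase htarget
    obtain ⟨v, hv, hcomm⟩ := exists_centralizing hodd h4 x hx2 g htarget g1 g2 g3 g4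
      (by rw [g2]) (by rw [hxx, hxx, g1]) (by rw [hp', hp₁, g3]) (by rw [hq', hp₂, g4])
    obtain ⟨v1, _, v3, v4⟩ := mem_L4.mp hv
    refine ⟨⟨v * g, mem_Cx.mpr hcomm⟩, ?_⟩
    show ((v * g) • a₀, (v * g) • p₁, (v * g) • p₂) = (a, p, q)
    rw [mul_smul, mul_smul, mul_smul, g1, g3, g4, v1, v3, v4]
  · rintro ⟨⟨c, hc⟩, hc'⟩
    have hcomm := mem_Cx.mp hc
    have hcx : ∀ y : β, x • (c • y) = c • (x • y) := fun y => by
      rw [← mul_smul, ← mul_smul, hcomm]
    have e : ((c • a₀, c • p₁, c • p₂) : β × β × β) = (a, p, q) := hc'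
    simp only [Prod.mk.injEq] at e
    obtain ⟨rfl, rfl, rfl⟩ := e
    refine ⟨?_, ?_, ?_, ?_⟩
    · rw [hcx]
      exact fun h => ha (smul_left_cancel _ h)
    · rw [hcx, hp₁]
    · rw [hcx, hp₂]
    · exact fun h => hp (smul_left_cancel _ h)

theorem count2 (hT : IsMultiplyPretransitive K β 4) {h : ℕ} (hodd : Odd h)
    (h4 : ∀ v : Fin 4 ↪ β, Nat.card (stabilizer K v) = h)
    (x : K) (hx2 : x * x = 1) (a₀ b₀ : β) (ha : x • a₀ ≠ a₀) (hb : x • b₀ ≠ b₀)
    (hba : b₀ ≠ a₀) (hba' : b₀ ≠ x • a₀) :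
    ((Mset x : Finset β).offDiag.filter (fun t => t.2 ≠ x • t.1)).card *
      Nat.card (stabilizer (Cx x) ((a₀, b₀) : β × β)) = Nat.card (Cx x) := by
  have hxx : ∀ y : β, x • (x • y) = y := fun y => by rw [← mul_smul, hx2, one_smul]
  rw [← ncard_orbit_mul_card_stabilizer (Q := Cx x) ((a₀, b₀) : β × β)]
  congr 1
  rw [← Set.ncard_coe_finset]
  congr 1
  ext ⟨a, b⟩
  simp only [Finset.coe_filter, Finset.mem_offDiag, mem_Mset, Set.mem_ofPred_eq]
  constructor
  · rintro ⟨⟨ha', hb', hab⟩, hne⟩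
    have hbase := nodup4_of_moved_moved x hxx a₀ b₀ ha hb hba hba'
    have htarget := nodup4_of_moved_moved x hxx a b ha' hb' (Ne.symm hab) hne
    obtain ⟨g, g1, g2, g3, g4⟩ :=
      exists_map4 (K := K) a₀ (x • a₀) b₀ (x • b₀) a (x • a) b (x • b) hbase htarget
    obtain ⟨v, hv, hcomm⟩ := exists_centralizing hodd h4 x hx2 g htarget g1 g2 g3 g4
      (by rw [g2]) (by rw [hxx, hxx, g1]) (by rw [g4]) (by rw [hxx, hxx, g3])
    obtain ⟨v1, _, v3, _⟩ := mem_L4.mp hv
    refine ⟨⟨v * g, mem_Cx.mpr hcomm⟩, ?_⟩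
    show ((v * g) • a₀, (v * g) • b₀) = (a, b)
    rw [mul_smul, mul_smul, g1, g3, v1, v3]
  · rintro ⟨⟨c, hc⟩, hc'⟩
    have hcomm := mem_Cx.mp hc
    have hcx : ∀ y : β, x • (c • y) = c • (x • y) := fun y => by
      rw [← mul_smul, ← mul_smul, hcomm]
    have e : ((c • a₀, c • b₀) : β × β) = (a, b) := hc'
    simp only [Prod.mk.injEq] at e
    obtain ⟨rfl, rfl⟩ := e
    refine ⟨⟨?_, ?_, ?_⟩, ?_⟩
    · rw [hcx]
      exact fun h => ha (smul_left_cancel _ h)
    · rw [hcx]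
      exact fun h => hb (smul_left_cancel _ h)
    · exact fun h => hba (smul_left_cancel _ h).symm
    · show c • b₀ ≠ x • (c • a₀)
      rw [hcx]
      exact fun h => hba' (smul_left_cancel _ h)

theorem eq_one_of_sq_of_mem_stab {h : ℕ} (hodd : Odd h)
    (h4 : ∀ v : Fin 4 ↪ β, Nat.card (stabilizer K v) = h) (v : Fin 4 ↪ β) {w : K}
    (hw : w ∈ stabilizer K v) (h2 : w * w = 1) : w = 1 := by
  have h1 := pow_card_eq_one' (G := stabilizer K v) (x := ⟨w, hw⟩)
  rw [h4 v] at h1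
  have h1' : w ^ h = 1 := congrArg Subtype.val h1
  obtain ⟨m, rfl⟩ := hodd
  rw [pow_succ, pow_mul, pow_two, h2, one_pow, one_mul] at h1'
  exact h1'

/-- the four-point stabiliser has orbits of length `h` off the four points, so `h ∣ |β| - 4` -/
theorem h_dvd_card_sub (h : ℕ) (h5 : ∀ v : Fin 5 ↪ β, stabilizer K v = ⊥)
    (h4 : ∀ v : Fin 4 ↪ β, Nat.card (stabilizer K v) = h) (a b c d : β)
    (hn : [a, b, c, d].Nodup) : h ∣ Fintype.card β - 4 := by
  classical
  set T : Finset β := {a, b, c, d} with hT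
  have hTcard : T.card = 4 := by
    simp only [List.nodup_cons, List.mem_cons, List.not_mem_nil, or_false, not_or,
      List.nodup_nil, and_true, not_false_eq_true] at hn
    obtain ⟨⟨h1, h2, h3⟩, ⟨h4', h5'⟩, h6⟩ := hn
    rw [hT, Finset.card_insert_of_notMem, Finset.card_insert_of_notMem,
      Finset.card_insert_of_notMem, Finset.card_singleton]
    · simp [h6]
    · simp [h4', h5']
    · simp [h1, h2, h3]
  have hmemT : ∀ y : β, y ∈ T ↔ y = a ∨ y = b ∨ y = c ∨ y = d := by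
    intro y
    simp [hT]
  apply dvd_ncard_of_invariant (Q := L4 (K := K) a b c d) h (Fintype.card β - 4)
    ((T : Set β)ᶜ) (Set.toFinite _)
  · rw [Set.ncard_compl, Set.ncard_coe_finset, hTcard, Nat.card_eq_fintype_card]
  · rintro ⟨q, hq⟩ y hy
    obtain ⟨q1, q2, q3, q4⟩ := mem_L4.mp hq
    simp only [Set.mem_compl_iff, Finset.mem_coe] at hy ⊢
    intro hqy
    apply hy
    have hqy' : q • y ∈ T := hqy
    rw [hmemT] at hqy' ⊢
    rcases hqy' with e | e | e | e
    · left; rw [← q1] at e; exact smul_left_cancel _ e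
    · right; left; rw [← q2] at e; exact smul_left_cancel _ e
    · right; right; left; rw [← q3] at e; exact smul_left_cancel _ e
    · right; right; right; rw [← q4] at e; exact smul_left_cancel _ e
  · intro y hy
    simp only [Set.mem_compl_iff, Finset.mem_coe] at hy
    rw [hmemT] at hy
    push Not at hy
    obtain ⟨y1, y2, y3, y4⟩ := hy
    have hstab : stabilizer (L4 (K := K) a b c d) y = ⊥ := by
      rw [eq_bot_iff]
      rintro ⟨q, hq⟩ hqy
      obtain ⟨q1, q2, q3, q4⟩ := mem_L4.mp hq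
      rw [mem_stabilizer_iff] at hqy
      have hqy' : q • y = y := hqy
      rw [Subgroup.mem_bot]
      apply Subtype.ext
      apply eq_one_of_fix5 h5 q a b c d y _ q1 q2 q3 q4 hqy'
      rw [List.nodup_cons] at hn ⊢
      simp only [List.nodup_cons, List.mem_cons, List.not_mem_nil, or_false, not_or,
        List.nodup_nil, and_true, not_false_eq_true] at hn ⊢
      obtain ⟨⟨h1, h2, h3⟩, ⟨h4', h5'⟩, h6⟩ := hn
      exact ⟨⟨h1, h2, h3, Ne.symm y1⟩, ⟨h4', h5', Ne.symm y2⟩, ⟨h6, Ne.symm y3⟩, Ne.symm y4⟩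
    have := ncard_orbit_mul_card_stabilizer (Q := L4 (K := K) a b c d) y
    rw [hstab, Subgroup.card_bot, mul_one, card_L4 h4 hn] at this
    exact this

theorem card_stab_triple (x : K) (a p q : β) :
    Nat.card (stabilizer (Cx x) ((a, p, q) : β × β × β)) =
      Nat.card ↥(Cx x ⊓ L4 (K := K) a (x • a) p q) := by
  apply Nat.card_congr
  refine
    { toFun := fun c => ⟨c.1.1, ?_⟩
      invFun := fun w => ⟨⟨w.1, (Subgroup.mem_inf.mp w.2).1⟩, ?_⟩
      left_inv := fun c => rfl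
      right_inv := fun w => rfl }
  · have hc := c.2
    rw [mem_stabilizer_iff] at hc
    have e : (((c.1 : K) • a, (c.1 : K) • p, (c.1 : K) • q) : β × β × β) = (a, p, q) := hc
    simp only [Prod.mk.injEq] at e
    have hcomm := mem_Cx.mp c.1.2
    refine Subgroup.mem_inf.mpr ⟨c.1.2, mem_L4.mpr ⟨e.1, ?_, e.2.1, e.2.2⟩⟩
    rw [← mul_smul, hcomm, mul_smul, e.1]
  · rw [mem_stabilizer_iff]
    obtain ⟨w1, _, w3, w4⟩ := mem_L4.mp (Subgroup.mem_inf.mp w.2).2
    show (((w.1 : K) • a, (w.1 : K) • p, (w.1 : K) • q) : β × β × β) = (a, p, q)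
    rw [w1, w3, w4]

theorem card_stab_pair (x : K) (a b : β) :
    Nat.card (stabilizer (Cx x) ((a, b) : β × β)) =
      Nat.card ↥(Cx x ⊓ L4 (K := K) a (x • a) b (x • b)) := by
  apply Nat.card_congr
  refine
    { toFun := fun c => ⟨c.1.1, ?_⟩
      invFun := fun w => ⟨⟨w.1, (Subgroup.mem_inf.mp w.2).1⟩, ?_⟩
      left_inv := fun c => rfl
      right_inv := fun w => rfl }
  · have hc := c.2
    rw [mem_stabilizer_iff] at hc
    have e : (((c.1 : K) • a, (c.1 : K) • b) : β × β) = (a, b) := hc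
    simp only [Prod.mk.injEq] at e
    have hcomm := mem_Cx.mp c.1.2
    refine Subgroup.mem_inf.mpr ⟨c.1.2, mem_L4.mpr ⟨e.1, ?_, e.2, ?_⟩⟩
    · rw [← mul_smul, hcomm, mul_smul, e.1]
    · rw [← mul_smul, hcomm, mul_smul, e.2]
  · rw [mem_stabilizer_iff]
    obtain ⟨w1, _, w3, _⟩ := mem_L4.mp (Subgroup.mem_inf.mp w.2).2
    show (((w.1 : K) • a, (w.1 : K) • b) : β × β) = (a, b)
    rw [w1, w3]

theorem aux_k_eq_one (N' k : ℕ) (h6 : 6 = N' * k) (h5 : 5 ≤ N') : k = 1 := by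
  rcases Nat.lt_or_ge k 2 with hk2 | hk2
  · rcases Nat.eq_zero_or_pos k with hk0 | hk0
    · rw [hk0] at h6; omega
    · omega
  · nlinarith

theorem aux_seven (h c' : ℕ) (h7 : h * c' = 7) (h3 : 3 ≤ h) (hc : 2 ≤ c') : False := by
  have hc'le : c' ≤ 2 := by nlinarith
  have : c' = 2 := by omega
  rw [this] at h7
  omega

/-- the arithmetic heart of Theorem C -/
theorem arith_core (n f m h c' e₁ e₂ P2 Cc : ℕ) (hodd : Odd h) (h3 : 3 ≤ h) (hn5 : 5 ≤ n)
    (hfm : f + m = n) (hN : n - 4 = h * c') (hf2 : 2 ≤ f) (hf3 : f ≤ 3)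
    (he₁ : e₁ ∣ h) (he₂ : e₂ ∣ h) (hne : n ≠ 4 + h)
    (hA : m * (f * f - f) * e₁ = Cc) (hB : P2 * e₂ = Cc) (hC : P2 + m = m * m - m) :
    e₁ = h ∧ e₂ = 1 := by
  have hh0 : 0 < h := by omega
  have he₁0 : 0 < e₁ := Nat.pos_of_dvd_of_pos he₁ hh0
  have he₂0 : 0 < e₂ := Nat.pos_of_dvd_of_pos he₂ hh0
  have he₁le : e₁ ≤ h := Nat.le_of_dvd hh0 he₁
  have hc'1 : 1 ≤ c' := by
    rcases Nat.eq_zero_or_pos c' with h0 | h0
    · rw [h0, mul_zero] at hN
      omega
    · exact h0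
  have hc'2 : 2 ≤ c' := by
    rcases Nat.lt_or_ge c' 2 with h1 | h1
    · have : c' = 1 := by omega
      rw [this, mul_one] at hN
      omega
    · exact h1
  have hmm : m ≤ m * m := Nat.le_mul_self m
  have hC' : P2 + m + m = m * m := by
    generalize m * m = mm at *
    omega
  have hNge : 6 ≤ h * c' := by nlinarith
  have hAB : m * (f * f - f) * e₁ = P2 * e₂ := by rw [hA, hB]
  have hf : f = 2 ∨ f = 3 := by omega
  rcases hf with rfl | rfl
  · -- f = 2
    have hm : m = h * c' + 2 := by omega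
    have hP2 : P2 = (h * c') * (h * c' + 2) := by
      rw [hm] at hC'
      generalize h * c' = N at *
      have : (N + 2) * (N + 2) = N * (N + 2) + (N + 2) + (N + 2) := by ring
      omega
    rw [hP2, hm] at hAB
    have h1 : 2 * e₁ = h * c' * e₂ := by
      have : (h * c' + 2) * (2 * e₁) = (h * c' + 2) * (h * c' * e₂) := by
        have e22 : 2 * 2 - 2 = 2 := by norm_num
        rw [e22] at hAB
        linarith [hAB]
      exact Nat.eq_of_mul_eq_mul_left (by omega) this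
    have h2 : c' * e₂ ≤ 2 := by
      have : h * (c' * e₂) ≤ h * 2 := by nlinarith
      exact Nat.le_of_mul_le_mul_left this hh0
    have he₂odd : Odd e₂ := by
      obtain ⟨k, hk⟩ := he₂
      rw [hk] at hodd
      exact (Nat.odd_mul.mp hodd).1
    have he₂1 : e₂ = 1 := by
      obtain ⟨k, hk⟩ := he₂odd
      nlinarith
    subst he₂1
    have hc'eq : c' = 2 := by omega
    subst hc'eq
    refine ⟨by nlinarith, rfl⟩
  · -- f = 3
    exfalso
    have hm : m = h * c' + 1 := by omega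
    obtain ⟨N', hN'⟩ : ∃ N', h * c' = N' + 1 := ⟨h * c' - 1, by omega⟩
    have hP2' : P2 = N' * (N' + 2) := by
      rw [hm, hN'] at hC'
      have : (N' + 1 + 1) * (N' + 1 + 1) = N' * (N' + 2) + (N' + 1 + 1) + (N' + 1 + 1) := by ring
      omega
    rw [hP2', hm, hN'] at hAB
    have h1 : 6 * e₁ = N' * e₂ := by
      have e33 : 3 * 3 - 3 = 6 := by norm_num
      rw [e33] at hAB
      have : (N' + 1 + 1) * (6 * e₁) = (N' + 1 + 1) * (N' * e₂) := by linarith [hAB]
      exact Nat.eq_of_mul_eq_mul_left (by omega) this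
    have hcop : Nat.Coprime e₁ N' := by
      have h2 : e₁ ∣ N' + 1 := by
        rw [← hN']
        exact Dvd.dvd.mul_right he₁ c'
      have h3' : Nat.Coprime (N' + 1) N' := by simp
      exact Nat.Coprime.coprime_dvd_left h2 h3'
    have hdvd : e₁ ∣ e₂ := by
      have : e₁ ∣ N' * e₂ := by
        rw [← h1]
        exact Dvd.intro_left 6 rfl
      exact hcop.dvd_of_dvd_mul_left this
    obtain ⟨k, hk⟩ := hdvd
    rw [hk] at h1
    have h6 : 6 = N' * k := by
      have : e₁ * 6 = e₁ * (N' * k) := by linarith [h1]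
      exact Nat.eq_of_mul_eq_mul_left he₁0 this
    have hN'5 : 5 ≤ N' := by omega
    have hk1 : k = 1 := aux_k_eq_one N' k h6 hN'5
    rw [hk1, mul_one] at h6
    -- h * c' = 7 with c' ≥ 2, h ≥ 3
    have h7 : h * c' = 7 := by omega
    exact aux_seven h c' h7 h3 hc'2

theorem star_main (hT : IsMultiplyPretransitive K β 4) (h : ℕ) (hodd : Odd h) (h3 : 3 ≤ h)
    (hβ : 5 ≤ Fintype.card β)
    (h5 : ∀ v : Fin 5 ↪ β, stabilizer K v = ⊥)
    (h4 : ∀ v : Fin 4 ↪ β, Nat.card (stabilizer K v) = h)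
    (hne : Fintype.card β ≠ 4 + h)
    (x : K) (hx2 : x * x = 1) (a₀ p₁ p₂ : β) (ha : x • a₀ ≠ a₀) (hp₁ : x • p₁ = p₁)
    (hp₂ : x • p₂ = p₂) (hp : p₁ ≠ p₂) :
    (∀ w ∈ L4 (K := K) a₀ (x • a₀) p₁ p₂, w * x = x * w) ∧
    (∀ b₀ : β, x • b₀ ≠ b₀ → b₀ ≠ a₀ → b₀ ≠ x • a₀ →
      ∀ w ∈ L4 (K := K) a₀ (x • a₀) b₀ (x • b₀), w * x = x * w → w = 1) ∧
    ∃ b₀ : β, x • b₀ ≠ b₀ ∧ b₀ ≠ a₀ ∧ b₀ ≠ x • a₀ := by
  have hxx : ∀ y : β, x • (x • y) = y := fun y => by rw [← mul_smul, hx2, one_smul]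
  have hbase := nodup4_of_moved_fixed x hxx a₀ p₁ p₂ ha hp₁ hp₂ hp
  obtain ⟨c', hc'⟩ := h_dvd_card_sub h h5 h4 _ _ _ _ hbase
  have hfm := card_F_add_card_M (β := β) x
  have hf2 : 2 ≤ (Fset x : Finset β).card := by
    have : 1 < (Fset x : Finset β).card :=
      Finset.one_lt_card.mpr ⟨p₁, mem_Fset.mpr hp₁, p₂, mem_Fset.mpr hp₂, hp⟩
    omega
  have hf3 : (Fset x : Finset β).card ≤ 3 := by
    by_contra hcon
    push Not at hcon
    obtain ⟨w, hw⟩ := Function.Embedding.exists_of_card_le_finset (α := Fin 4)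
      (s := (Fset x : Finset β)) (by simp only [Fintype.card_fin]; omega)
    have hxw : x ∈ stabilizer K w := by
      rw [mem_stabilizer_iff]
      ext i
      rw [Function.Embedding.smul_apply]
      exact mem_Fset.mp (hw ⟨i, rfl⟩)
    have := eq_one_of_sq_of_mem_stab hodd h4 w hxw hx2
    rw [this, one_smul] at ha
    exact ha rfl
  have hh0 : 0 < h := by omega
  have hc'1 : 1 ≤ c' := by
    rcases Nat.eq_zero_or_pos c' with h0 | h0
    · rw [h0, mul_zero] at hc'
      omega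
    · exact h0
  have hM4 : 4 ≤ (Mset x : Finset β).card := by
    have : 3 ≤ h * c' := by nlinarith
    omega
  -- existence of b₀
  have hex : ∃ b₀ : β, x • b₀ ≠ b₀ ∧ b₀ ≠ a₀ ∧ b₀ ≠ x • a₀ := by
    obtain ⟨b₀, hb₀M, hb₀⟩ : ∃ c ∈ (Mset x : Finset β), c ∉ ({a₀, x • a₀} : Finset β) :=
      Finset.exists_mem_notMem_of_card_lt_card
        (lt_of_le_of_lt Finset.card_le_two (by omega))
    rw [Finset.mem_insert, Finset.mem_singleton, not_or] at hb₀
    exact ⟨b₀, mem_Mset.mp hb₀M, hb₀.1, hb₀.2⟩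
  -- the core numerical claim for every valid b₀
  have core : ∀ b₀ : β, x • b₀ ≠ b₀ → b₀ ≠ a₀ → b₀ ≠ x • a₀ →
      Nat.card ↥(Cx x ⊓ L4 (K := K) a₀ (x • a₀) p₁ p₂) = h ∧
      Nat.card ↥(Cx x ⊓ L4 (K := K) a₀ (x • a₀) b₀ (x • b₀)) = 1 := by
    intro b₀ hb hba hba'
    have hbase2 := nodup4_of_moved_moved x hxx a₀ b₀ ha hb hba hba'
    have c1 := count1 hT hodd h4 x hx2 a₀ p₁ p₂ ha hp₁ hp₂ hp
    have c2 := count2 hT hodd h4 x hx2 a₀ b₀ ha hb hba hba'
    rw [card_stab_triple] at c1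
    rw [card_stab_pair] at c2
    rw [Finset.card_product, Finset.offDiag_card] at c1
    have hcnt := card_offDiag_filter_ne (Mset x : Finset β) (fun a => x • a)
      (fun a ha' => by
        rw [mem_Mset] at ha' ⊢
        rw [hxx]
        exact fun h => ha' h.symm)
      (fun a ha' => mem_Mset.mp ha')
    have he₁ : Nat.card ↥(Cx x ⊓ L4 (K := K) a₀ (x • a₀) p₁ p₂) ∣ h := by
      have := Subgroup.card_dvd_of_le
        (inf_le_right : Cx x ⊓ L4 (K := K) a₀ (x • a₀) p₁ p₂ ≤ L4 (K := K) a₀ (x • a₀) p₁ p₂)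
      rwa [card_L4 h4 hbase] at this
    have he₂ : Nat.card ↥(Cx x ⊓ L4 (K := K) a₀ (x • a₀) b₀ (x • b₀)) ∣ h := by
      have := Subgroup.card_dvd_of_le
        (inf_le_right : Cx x ⊓ L4 (K := K) a₀ (x • a₀) b₀ (x • b₀) ≤
          L4 (K := K) a₀ (x • a₀) b₀ (x • b₀))
      rwa [card_L4 h4 hbase2] at this
    exact arith_core (Fintype.card β) _ _ h c' _ _ _ _ hodd h3 hβ hfm hc' hf2 hf3 he₁ he₂ hne
      c1 c2 hcnt
  obtain ⟨b₁, hb₁, hb₁a, hb₁a'⟩ := hex
  refine ⟨?_, ?_, ⟨b₁, hb₁, hb₁a, hb₁a'⟩⟩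
  · intro w hw
    have hcard := (core b₁ hb₁ hb₁a hb₁a').1
    have heq : Cx x ⊓ L4 (K := K) a₀ (x • a₀) p₁ p₂ = L4 (K := K) a₀ (x • a₀) p₁ p₂ := by
      apply Subgroup.eq_of_le_of_card_ge inf_le_right
      rw [hcard, card_L4 h4 hbase]
    rw [← heq] at hw
    exact mem_Cx.mp (Subgroup.mem_inf.mp hw).1
  · intro b₀ hb hba hba' w hw hcomm
    have hcard := (core b₀ hb hba hba').2
    have hbot : Cx x ⊓ L4 (K := K) a₀ (x • a₀) b₀ (x • b₀) = ⊥ :=
      Subgroup.card_eq_one.mp hcard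
    have hmem : w ∈ Cx x ⊓ L4 (K := K) a₀ (x • a₀) b₀ (x • b₀) :=
      Subgroup.mem_inf.mpr ⟨mem_Cx.mpr hcomm, hw⟩
    rw [hbot, Subgroup.mem_bot] at hmem
    exact hmem

end count

section main

variable {K β : Type*} [Group K] [Finite K] [MulAction K β] [Fintype β] [DecidableEq β]

/-- action of a conjugate -/
theorem conj_smul_of (g x : K) {p q r : β} (hp : g • p = q) (hx : x • p = r) :
    (g * x * g⁻¹) • q = g • r := by
  rw [mul_smul, mul_smul, ← hp, inv_smul_smul, hx]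

/-- **Theorem C**: a 4-transitive group whose 5-point stabilisers are trivial and whose 4-point
stabilisers have odd order `h ≥ 3` has degree `4 + h`. -/
theorem thmC {K β : Type*} [Group K] [Finite K] [MulAction K β] [Fintype β] [DecidableEq β]
    (h : ℕ) (hodd : Odd h) (h3 : 3 ≤ h) (hβ : 5 ≤ Fintype.card β)
    (hT : IsMultiplyPretransitive K β 4)
    (h5 : ∀ v : Fin 5 ↪ β, stabilizer K v = ⊥)
    (h4 : ∀ v : Fin 4 ↪ β, Nat.card (stabilizer K v) = h) :
    Fintype.card β = 4 + h := by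
  by_contra hne
  obtain ⟨v₀⟩ : Nonempty (Fin 4 ↪ β) :=
    Function.Embedding.nonempty_of_card_le (by simp only [Fintype.card_fin]; omega)
  have hne' : ∀ i j : Fin 4, i ≠ j → v₀ i ≠ v₀ j := fun i j hij h => hij (v₀.injective h)
  obtain ⟨a, a', p₁, p₂, hnd, hnd'⟩ : ∃ a a' p₁ p₂ : β,
      [a, a', p₁, p₂].Nodup ∧ [a', a, p₁, p₂].Nodup := by
    refine ⟨v₀ 0, v₀ 1, v₀ 2, v₀ 3, ?_, ?_⟩
    · simp only [List.nodup_cons, List.mem_cons, List.not_mem_nil, or_false, not_or,
        List.nodup_nil, and_true, not_false_eq_true]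
      exact ⟨⟨hne' 0 1 (by decide), hne' 0 2 (by decide), hne' 0 3 (by decide)⟩,
        ⟨hne' 1 2 (by decide), hne' 1 3 (by decide)⟩, hne' 2 3 (by decide)⟩
    · simp only [List.nodup_cons, List.mem_cons, List.not_mem_nil, or_false, not_or,
        List.nodup_nil, and_true, not_false_eq_true]
      exact ⟨⟨hne' 1 0 (by decide), hne' 1 2 (by decide), hne' 1 3 (by decide)⟩,
        ⟨hne' 0 2 (by decide), hne' 0 3 (by decide)⟩, hne' 2 3 (by decide)⟩
  have hd := hnd
  simp only [List.nodup_cons, List.mem_cons, List.not_mem_nil, or_false, not_or,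
    List.nodup_nil, and_true, not_false_eq_true] at hd
  obtain ⟨⟨haa', hap₁, hap₂⟩, ⟨ha'p₁, ha'p₂⟩, hp⟩ := hd
  obtain ⟨g, g1, g2, g3, g4⟩ := exists_map4 (K := K) a a' p₁ p₂ a' a p₁ p₂ hnd hnd'
  have hgg : g * g ∈ L4 (K := K) a a' p₁ p₂ :=
    mem_L4.mpr ⟨by rw [mul_smul, g1, g2], by rw [mul_smul, g2, g1], by rw [mul_smul, g3, g3],
      by rw [mul_smul, g4, g4]⟩
  have hx2 : g ^ h * g ^ h = 1 := by
    rw [← pow_add, ← two_mul, pow_mul, pow_two]
    exact pow_eq_one_of_mem_L4 h4 hnd hgg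
  have hpow : ∀ j : ℕ, g ^ (2 * j + 1) • a = a' ∧ g ^ (2 * j + 1) • a' = a ∧
      g ^ (2 * j + 1) • p₁ = p₁ ∧ g ^ (2 * j + 1) • p₂ = p₂ := by
    intro j
    induction j with
    | zero => simpa using ⟨g1, g2, g3, g4⟩
    | succ j ih =>
      obtain ⟨i1, i2, i3, i4⟩ := ih
      have e : g ^ (2 * (j + 1) + 1) = g * g * g ^ (2 * j + 1) := by
        rw [show 2 * (j + 1) + 1 = 2 + (2 * j + 1) by ring, pow_add, pow_two]
      rw [e]
      refine ⟨?_, ?_, ?_, ?_⟩
      · rw [mul_smul, mul_smul, i1, g2, g1]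
      · rw [mul_smul, mul_smul, i2, g1, g2]
      · rw [mul_smul, mul_smul, i3, g3, g3]
      · rw [mul_smul, mul_smul, i4, g4, g4]
  obtain ⟨j, hj⟩ := hodd
  obtain ⟨x, hxdef⟩ : ∃ x : K, x = g ^ h := ⟨_, rfl⟩
  rw [← hxdef] at hx2
  obtain ⟨hxa, hxa', hxp₁, hxp₂⟩ : x • a = a' ∧ x • a' = a ∧ x • p₁ = p₁ ∧ x • p₂ = p₂ := by
    rw [hxdef, hj]
    exact hpow j
  have hodd : Odd h := ⟨j, hj⟩
  have hxx : ∀ y : β, x • (x • y) = y := fun y => by rw [← mul_smul, hx2, one_smul]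
  have ha : x • a ≠ a := by rw [hxa]; exact fun e => haa' e.symm
  obtain ⟨-, hiii, ⟨b, hb, hba, hba'⟩⟩ :=
    star_main hT h hodd h3 hβ h5 h4 hne x hx2 a p₁ p₂ ha hxp₁ hxp₂ hp
  rw [hxa] at hiii hba'
  have hiii' := hiii b hb hba hba'
  have hnd2 : [a, a', b, x • b].Nodup := by
    have := nodup4_of_moved_moved x hxx a b ha hb hba (by rw [hxa]; exact hba')
    rwa [hxa] at this
  have hd2 := hnd2
  simp only [List.nodup_cons, List.mem_cons, List.not_mem_nil, or_false, not_or,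
    List.nodup_nil, and_true, not_false_eq_true] at hd2
  obtain ⟨⟨-, hab, haxb⟩, ⟨ha'b, ha'xb⟩, hbxb⟩ := hd2
  -- x' : swaps a, a' and fixes b, x • b
  obtain ⟨g', g'1, g'2, g'3, g'4⟩ :=
    exists_map4 (K := K) a a' p₁ p₂ a a' b (x • b) hnd hnd2
  obtain ⟨x', hx'def⟩ : ∃ x' : K, x' = g' * x * g'⁻¹ := ⟨_, rfl⟩
  have hx'2 : x' * x' = 1 := by
    rw [hx'def]
    calc g' * x * g'⁻¹ * (g' * x * g'⁻¹) = g' * (x * x) * g'⁻¹ := by group
      _ = 1 := by rw [hx2]; group
  have hx'a : x' • a = a' := by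
    rw [hx'def, conj_smul_of g' x g'1 hxa, g'2]
  have hx'a' : x' • a' = a := by
    rw [hx'def, conj_smul_of g' x g'2 hxa', g'1]
  have hx'b : x' • b = b := by
    rw [hx'def, conj_smul_of g' x g'3 hxp₁, g'3]
  have hx'xb : x' • (x • b) = x • b := by
    rw [hx'def, conj_smul_of g' x g'4 hxp₂, g'4]
  obtain ⟨hii', -, -⟩ := star_main hT h hodd h3 hβ h5 h4 hne x' hx'2 a b (x • b)
    (by rw [hx'a]; exact fun e => haa' e.symm) hx'b hx'xb hbxb
  rw [hx'a] at hii'
  -- x'' : swaps b, x • b and fixes a, a'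
  have hnd3 : [b, x • b, a, a'].Nodup := by
    simp only [List.nodup_cons, List.mem_cons, List.not_mem_nil, or_false, not_or,
      List.nodup_nil, and_true, not_false_eq_true]
    exact ⟨⟨hbxb, Ne.symm hab, Ne.symm ha'b⟩, ⟨Ne.symm haxb, Ne.symm ha'xb⟩, haa'⟩
  obtain ⟨g'', g''1, g''2, g''3, g''4⟩ :=
    exists_map4 (K := K) a a' p₁ p₂ b (x • b) a a' hnd hnd3
  obtain ⟨x'', hx''def⟩ : ∃ x'' : K, x'' = g'' * x * g''⁻¹ := ⟨_, rfl⟩
  have hx''2 : x'' * x'' = 1 := by
    rw [hx''def]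
    calc g'' * x * g''⁻¹ * (g'' * x * g''⁻¹) = g'' * (x * x) * g''⁻¹ := by group
      _ = 1 := by rw [hx2]; group
  have hx''b : x'' • b = x • b := by
    rw [hx''def, conj_smul_of g'' x g''1 hxa, g''2]
  have hx''xb : x'' • (x • b) = b := by
    rw [hx''def, conj_smul_of g'' x g''2 hxa', g''1]
  have hx''a : x'' • a = a := by
    rw [hx''def, conj_smul_of g'' x g''3 hxp₁, g''3]
  have hx''a' : x'' • a' = a' := by
    rw [hx''def, conj_smul_of g'' x g''4 hxp₂, g''4]
  obtain ⟨hii'', -, -⟩ := star_main hT h hodd h3 hβ h5 h4 hne x'' hx''2 b a a'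
    (by rw [hx''b]; exact hb) hx''a hx''a' haa'
  rw [hx''b] at hii''
  have hii''' : ∀ w ∈ L4 (K := K) a a' b (x • b), w * x'' = x'' * w := by
    intro w hw
    apply hii'' w
    obtain ⟨w1, w2, w3, w4⟩ := mem_L4.mp hw
    exact mem_L4.mpr ⟨w3, w4, w1, w2⟩
  -- z = x * x'' * x'
  have hz : x * x'' * x' ∈ L4 (K := K) a a' b (x • b) := by
    refine mem_L4.mpr ⟨?_, ?_, ?_, ?_⟩
    · rw [mul_smul, mul_smul, hx'a, hx''a', hxa']
    · rw [mul_smul, mul_smul, hx'a', hx''a, hxa]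
    · rw [mul_smul, mul_smul, hx'b, hx''b, hxx]
    · rw [mul_smul, mul_smul, hx'xb, hx''xb]
  have hzx' := hii' _ hz
  have hzx'' := hii''' _ hz
  have hxz : x = x * x'' * x' * x' * x'' := by
    calc x = x * (x'' * (x' * x') * x'') := by rw [hx'2, mul_one, hx''2, mul_one]
      _ = x * x'' * x' * x' * x'' := by group
  have hzcomm : x * x'' * x' * x = x * (x * x'' * x') := by
    set z := x * x'' * x' with hzdef
    have e1 : x = z * x' * x'' := hxz
    calc z * x = z * (z * x' * x'') := by rw [← e1]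
      _ = z * z * x' * x'' := by group
      _ = z * (x' * z) * x'' := by rw [← hzx']; group
      _ = z * x' * (z * x'') := by group
      _ = z * x' * (x'' * z) := by rw [hzx'']
      _ = (z * x' * x'') * z := by group
      _ = x * z := by rw [← e1]
  have hz1 : x * x'' * x' = 1 := hiii' _ hz hzcomm
  have hxeq : x = x' * x'' := by
    rw [hxz, hz1, one_mul]
  have hbot : ∀ w ∈ L4 (K := K) a a' b (x • b), w = 1 := by
    intro w hw
    apply hiii' w hw
    have c1 := hii' w hw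
    have c2 := hii''' w hw
    calc w * x = w * (x' * x'') := by rw [← hxeq]
      _ = (w * x') * x'' := by group
      _ = x' * (w * x'') := by rw [c1]; group
      _ = x' * (x'' * w) := by rw [c2]
      _ = (x' * x'') * w := by group
      _ = x * w := by rw [← hxeq]
  have hcard := card_L4 h4 hnd2
  have : L4 (K := K) a a' b (x • b) = ⊥ := by
    rw [eq_bot_iff]
    intro w hw
    rw [Subgroup.mem_bot]
    exact hbot w hw
  rw [this, Subgroup.card_bot] at hcard
  omega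

end main

end Cfsg.Agent.Lib.Helper22.LW
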