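import Mathlib

set_option autoImplicit false

namespace Cfsg.Agent.Lib.Helper22.LW

open MulAction

variable {α : Type*} [Fintype α] [DecidableEq α]

/-- P9: an `(n-2)`-transitive, not `(n-1)`-transitive group of degree `n` is `A_n`. -/
theorem eq_alternating (G : Subgroup (Equiv.Perm α)) (hn : 3 ≤ Fintype.card α)
    (hT : IsMultiplyPretransitive G α (Fintype.card α - 2))
    (hnT : ¬ IsMultiplyPretransitive G α (Fintype.card α - 1)) : G = alternatingGroup α := by
  have hle : alternatingGroup α ≤ G := by
    apply IsMultiplyPretransitive.alternatingGroup_le α G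
    rw [Nat.card_eq_fintype_card]
    exact hT
  have hnt : Nontrivial α := Fintype.one_lt_card_iff_nontrivial.mp (by omega)
  have hidx : (alternatingGroup α).index = 2 := alternatingGroup.index_eq_two
  have hrel := Subgroup.relIndex_mul_index hle
  rw [hidx] at hrel
  have hG : G.index = 1 ∨ G.index = 2 := by
    have : G.index ∣ 2 := Dvd.intro_left _ hrel
    rcases (Nat.dvd_prime Nat.prime_two).mp this with h | h
    · exact Or.inl h
    · exact Or.inr h
  rcases hG with h1 | h2
  · exfalso
    apply hnT
    rw [Subgroup.index_eq_one] at h1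
    rw [h1]
    have : IsMultiplyPretransitive (Equiv.Perm α) α (Fintype.card α - 1) :=
      Equiv.Perm.isMultiplyPretransitive α _
    -- transfer from `Perm α` to `⊤`
    refine ⟨fun x y => ?_⟩
    obtain ⟨g, hg⟩ := this.exists_smul_eq x y
    exact ⟨⟨g, Subgroup.mem_top g⟩, hg⟩
  · exact Equiv.Perm.eq_alternatingGroup_of_index_eq_two h2

end Cfsg.Agent.Lib.Helper22.LW
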